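import Groth.Agent.RelH1.Flat
import Groth.Agent.KoszulLib.FlatKinds
import Groth.Agent.KoszulLib.FlatQuot
import Groth.Agent.KoszulLib.Basic

/-!
# An H1-regular sequence with flat quotient in a finitely presented algebra forces flatness
-/

set_option autoImplicit false
set_option linter.style.haveILetI false
universe u

open TensorProduct RingTheory.Sequence

namespace Groth.Agent.RelH1

theorem h1_equiv {A B : Type u} [CommRing A] [CommRing B] (e : A ≃+* B) {n : ℕ} {f : Fin n → A}
    (hf : CAlgX.IsH1Regular f) : CAlgX.IsH1Regular (⇑e ∘ f) := by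
  letI : Algebra A B := e.toRingHom.toAlgebra
  haveI : Module.Flat A B := RingHom.Flat.of_bijective e.bijective
  exact KoszulLib.h1_flat hf

/-- Flatness at a prime over a relatively H1-regular sequence. -/
theorem flat_of_h1 {A B : Type u} [CommRing A] [CommRing B] [Algebra A B] [Algebra.FinitePresentation A B] {n : ℕ}
    (f : Fin n → B) (hf : CAlgX.IsH1Regular f) [Module.Flat A (B ⧸ Ideal.span (Set.range f))]
    (q : Ideal B) [q.IsPrime] (hfq : ∀ i, f i ∈ q) : Module.Flat A (Localization.AtPrime q) := by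
  classical
  let B' := Localization.AtPrime q
  haveI : Module.Flat B B' := IsLocalization.flat B' q.primeCompl
  have hf' : CAlgX.IsH1Regular (algebraMap B B' ∘ f) := KoszulLib.h1_flat hf
  haveI : Module.Flat A (B' ⧸ Ideal.span (Set.range (algebraMap B B' ∘ f))) :=
    KoszulLib.flat_base_quot (Ideal.span (Set.range f)) (by rw [Ideal.map_span, ← Set.range_comp])
  have hmem : ∀ i, algebraMap B B' (f i) ∈ IsLocalRing.maximalIdeal B' := fun i =>
    (IsLocalization.AtPrime.to_map_mem_maximal_iff B' q _).mpr (hfq i)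
  let p := q.comap (algebraMap A B)
  let mB := p.map (algebraMap A B')
  -- the fibre
  have hfib : ∀ (k : ℕ) (hk : k ≤ n),
      CAlgX.IsH1Regular (fun j => Ideal.Quotient.mk mB (algebraMap B B' (f (Fin.castLE hk j)))) := by
    have h1 := KoszulLib.h1_baseChange (A := A) (A ⧸ p) hf'
    let e : (A ⧸ p) ⊗[A] B' ≃+* B' ⧸ mB :=
      ((Algebra.TensorProduct.comm A (A ⧸ p) B').toRingEquiv).trans
        (Algebra.TensorProduct.quotIdealMapEquivTensorQuot B' p).symm.toRingEquiv
    have he : ⇑e ∘ (fun i => ((1 : A ⧸ p) ⊗ₜ[A] (algebraMap B B' ∘ f) i : (A ⧸ p) ⊗[A] B')) =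
        fun i => Ideal.Quotient.mk mB (algebraMap B B' (f i)) := by
      funext i
      show (Algebra.TensorProduct.quotIdealMapEquivTensorQuot B' p).symm
        (algebraMap B B' (f i) ⊗ₜ[A] (1 : A ⧸ p)) = _
      rw [AlgEquiv.symm_apply_eq, Algebra.TensorProduct.quotIdealMapEquivTensorQuot_mk]
    have h2 := h1_equiv e h1
    rw [he] at h2
    haveI : IsNoetherianRing (B' ⧸ mB) := KoszulLib.isNoetherianRing_fibre (S' := B') q p rfl
    have hw := KoszulLib.isWeaklyRegular_of_h1 (fun i => by
      rw [Ideal.jacobson, Submodule.mem_sInf]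
      rintro (M : Ideal _) ⟨-, hM⟩
      haveI : M.IsMaximal := hM
      have hmax := Ideal.comap_isMaximal_of_surjective (Ideal.Quotient.mk mB) Ideal.Quotient.mk_surjective (K := M)
      show algebraMap B B' (f i) ∈ M.comap (Ideal.Quotient.mk mB)
      rw [IsLocalRing.eq_maximalIdeal hmax]
      exact hmem i) h2
    intro k hk
    refine KoszulLib.isH1Regular_of_acyclic (KoszulLib.acyclic_of_isWeaklyRegular' ?_)
    let g := fun i => Ideal.Quotient.mk mB (algebraMap B B' (f i))
    show IsWeaklyRegular _ (List.ofFn (g ∘ Fin.castLE hk))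
    have htake : List.ofFn (g ∘ Fin.castLE hk) = (List.ofFn g).take k := by
      refine List.ext_getElem (by simp [hk]) fun i h1 h2 => by simp
    rw [htake]
    have h3 := hw
    rw [← List.take_append_drop k (List.ofFn g), isWeaklyRegular_append_iff] at h3
    exact h3.1
  -- the presentation
  obtain ⟨r, π, hπ, hkerfg⟩ := (Algebra.FinitePresentation.out (R := A) (A := B))
  let P₀ := MvPolynomial (Fin r) A
  let Q := q.comap π.toRingHom
  haveI : Q.IsPrime := Ideal.comap_isPrime _ _
  let P := Localization.AtPrime Q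
  have hM : Q.primeCompl.map π.toRingHom = q.primeCompl := by
    ext b
    constructor
    · rintro ⟨a, ha, rfl⟩
      exact ha
    · intro hb
      obtain ⟨a, rfl⟩ := hπ b
      exact ⟨a, hb, rfl⟩
  let Φ : P →+* B' := IsLocalization.map B' π.toRingHom (M := Q.primeCompl) (T := q.primeCompl)
    (hM ▸ Submonoid.le_comap_map _)
  have hΦc : ∀ x, Φ (algebraMap P₀ P x) = algebraMap B B' (π x) := fun x => IsLocalization.map_eq _ x
  have hΦA : ∀ a, Φ (algebraMap A P a) = algebraMap A B' a := fun a => by
    rw [IsScalarTower.algebraMap_apply A P₀ P, hΦc, π.commutes, ← IsScalarTower.algebraMap_apply]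
  let Φa : P →ₐ[A] B' := ⟨Φ, hΦA⟩
  have hΦ : Function.Surjective Φ := fun z => by
    obtain ⟨b, ⟨c, hc⟩, rfl⟩ := IsLocalization.exists_mk'_eq q.primeCompl z
    obtain ⟨a, rfl⟩ := hπ b
    obtain ⟨c, rfl⟩ := hπ c
    exact ⟨IsLocalization.mk' P a (⟨c, hc⟩ : Q.primeCompl), IsLocalization.map_mk' _ _ _⟩
  let K : Ideal P := RingHom.ker Φ
  have hKfg : K.FG := by
    show (RingHom.ker Φ).FG
    rw [IsLocalization.ker_map (S := P) B' π.toRingHom hM]
    exact Ideal.FG.map hkerfg _
  choose F hF using fun i => hΦ (algebraMap B B' (f i))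
  let e : P ⧸ K ≃+* B' := RingHom.quotientKerEquivOfSurjective hΦ
  have hmP : mB = ((Q.comap (algebraMap A P₀)).map (algebraMap A P)).map Φ := by
    rw [Ideal.map_map, show Φ.comp (algebraMap A P) = algebraMap A B' from RingHom.ext Φa.commutes]
    refine congrArg (Ideal.map (algebraMap A B')) ?_
    show q.comap (algebraMap A B) = (q.comap π.toRingHom).comap (algebraMap A P₀)
    rw [Ideal.comap_comap]
    congr 1
    exact RingHom.ext fun a => (π.commutes a).symm
  let m := (Q.comap (algebraMap A P₀)).map (algebraMap A P)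
  let ψ : P →+* B' ⧸ mB := (Ideal.Quotient.mk mB).comp Φ
  have hψ : Function.Surjective ψ := Ideal.Quotient.mk_surjective.comp hΦ
  have hψker : RingHom.ker ψ = K ⊔ m := by
    show RingHom.ker ((Ideal.Quotient.mk mB).comp Φ) = _
    rw [← RingHom.comap_ker, Ideal.mk_ker, hmP, Ideal.comap_map_of_surjective _ hΦ, sup_comm]
    rfl
  let e' : P ⧸ (K ⊔ m) ≃+* B' ⧸ mB :=
    (Ideal.quotEquivOfEq hψker.symm).trans (RingHom.quotientKerEquivOfSurjective hψ)
  have hspan : (K ⊔ Ideal.span (Set.range F)) = (Ideal.span (Set.range (algebraMap B B' ∘ f))).comap Φ := by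
    rw [show Ideal.span (Set.range (algebraMap B B' ∘ f)) = (Ideal.span (Set.range F)).map Φ by
      rw [Ideal.map_span, ← Set.range_comp, show ⇑Φ ∘ F = algebraMap B B' ∘ f from funext hF],
      Ideal.comap_map_of_surjective _ hΦ, sup_comm]
    rfl
  haveI : Module.Flat A (P ⧸ (K ⊔ Ideal.span (Set.range F))) := by
    let χ : P →ₐ[A] B' ⧸ Ideal.span (Set.range (algebraMap B B' ∘ f)) :=
      (Ideal.Quotient.mkₐ A _).comp Φa
    have hχ : Function.Surjective χ := Ideal.Quotient.mk_surjective.comp hΦ
    have hk : K ⊔ Ideal.span (Set.range F) = RingHom.ker χ := by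
      rw [hspan]
      ext x
      let S := Ideal.span (Set.range (algebraMap B B' ∘ f))
      show Φ x ∈ S ↔ Ideal.Quotient.mk S (Φ x) = 0
      exact Ideal.Quotient.eq_zero_iff_mem.symm
    exact Module.Flat.of_linearEquiv ((Ideal.quotientEquivAlgOfEq A hk).trans
      (Ideal.quotientKerAlgEquivOfSurjective hχ)).toLinearEquiv
  have hFj : Ideal.span (Set.range F) ≤ Ideal.jacobson ⊥ := by
    refine le_trans ?_ (IsLocalRing.maximalIdeal_le_jacobson ⊥)
    rw [Ideal.span_le]
    rintro _ ⟨i, rfl⟩
    have h := hmem i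
    rw [← hF i] at h
    exact fun hu => h (hu.map Φ)
  have h := flat_atPrime (R := A) Q K hKfg F hFj
    (by
      have h := h1_equiv (B := P ⧸ K) e.symm hf'
      convert h using 1
      funext i
      rw [Function.comp_apply, eq_comm, RingEquiv.symm_apply_eq]
      exact (hF i).symm)
    (fun k hk => by
      have h := h1_equiv (B := P ⧸ (K ⊔ m)) e'.symm (hfib k hk)
      convert h using 1
      funext i
      rw [Function.comp_apply, eq_comm, RingEquiv.symm_apply_eq]
      exact congrArg (Ideal.Quotient.mk mB) (hF _).symm)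
  haveI : Module.Flat A (P ⧸ RingHom.ker Φa) := h
  exact Module.Flat.of_linearEquiv (Ideal.quotientKerAlgEquivOfSurjective (f := Φa) hΦ).symm.toLinearEquiv

end Groth.Agent.RelH1
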