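import Groth.Agent.RelH1.Pairs
import Groth.Agent.InjFibre.Alg
import Groth.Agent.KoszulLib.SeqFibre
import Groth.Agent.KoszulFib.Local

/-!
# Flatness along an H1-regular sequence with flat quotient
-/

set_option autoImplicit false
set_option linter.style.haveILetI false
universe u

namespace Groth.Agent.RelH1

/-- Submodules of a finite free module are finitely generated modulo an ideal with noetherian quotient. -/
theorem exists_fg_mod {P : Type u} [CommRing P] (m : Ideal P) [IsNoetherianRing (P ⧸ m)] {s : ℕ}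
    (W : Submodule P (Fin s → P)) :
    ∃ Z : Submodule P (Fin s → P), Z.FG ∧ Z ≤ W ∧ W ≤ Z ⊔ m • ⊤ := by
  classical
  let π : (Fin s → P) →ₗ[P] (Fin s → P ⧸ m) := (Algebra.linearMap P (P ⧸ m)).compLeft (Fin s)
  have hN : (W.map π).FG := by
    let N' : Submodule (P ⧸ m) (Fin s → P ⧸ m) :=
      { W.map π with
        smul_mem' := fun c x hx => by
          obtain ⟨r, rfl⟩ := Ideal.Quotient.mk_surjective c
          exact (W.map π).smul_mem r hx }
    exact (show W.map π = N'.restrictScalars P from rfl) ▸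
      Submodule.FG.restrictScalars_of_surjective (IsNoetherian.noetherian N') Ideal.Quotient.mk_surjective
  obtain ⟨k, g, hg⟩ := Submodule.fg_iff_exists_fin_generating_family.mp hN
  have hgW : ∀ i, ∃ w ∈ W, π w = g i := fun i => Submodule.mem_map.mp (hg ▸ Submodule.subset_span ⟨i, rfl⟩)
  choose w hw hwg using hgW
  refine ⟨Submodule.span P (Set.range w), Submodule.fg_span (Set.finite_range w),
    Submodule.span_le.mpr (Set.range_subset_iff.mpr hw), fun x hx => ?_⟩
  have h1 : π x ∈ (Submodule.span P (Set.range w)).map π := by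
    rw [Submodule.map_span, ← Set.range_comp, show π ∘ w = g from funext hwg, hg]
    exact Submodule.mem_map_of_mem hx
  obtain ⟨y, hy, hyx⟩ := h1
  refine Submodule.mem_sup.mpr ⟨y, hy, x - y, ?_, add_sub_cancel _ _⟩
  have h2 : ∀ i, (x - y) i ∈ m := fun i => by
    rw [← Ideal.Quotient.eq_zero_iff_mem]
    have := congrFun hyx i
    show Ideal.Quotient.mk m (x i - y i) = 0
    rw [map_sub, sub_eq_zero]
    exact this.symm
  rw [pi_eq_sum_univ' (x - y)]
  exact Submodule.sum_mem _ fun i _ => Submodule.smul_mem_smul (h2 i) trivial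

/-- At a prime of a flat algebra of finite presentation, a quotient by a finitely generated ideal in which an
H1-regular sequence has flat quotient and is regular on the fibre is flat. -/
theorem flat_atPrime {R P₀ P : Type u} [CommRing R] [CommRing P₀] [CommRing P] [Algebra R P₀]
    [Algebra.FinitePresentation R P₀] [Module.Flat R P₀] (q : Ideal P₀) [q.IsPrime] [Algebra P₀ P]
    [IsLocalization.AtPrime P q] [Algebra R P] [IsScalarTower R P₀ P] (K : Ideal P) (hK : K.FG) {n : ℕ}
    (f : Fin n → P) (hf : Ideal.span (Set.range f) ≤ Ideal.jacobson ⊥)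
    (hh : CAlgX.IsH1Regular (fun j => Ideal.Quotient.mk K (f j)))
    (hpre : ∀ (k : ℕ) (hk : k ≤ n), CAlgX.IsH1Regular (fun j =>
      Ideal.Quotient.mk (K ⊔ (q.comap (algebraMap R P₀)).map (algebraMap R P)) (f (Fin.castLE hk j))))
    [Module.Flat R (P ⧸ (K ⊔ Ideal.span (Set.range f)))] : Module.Flat R (P ⧸ K) := by
  classical
  let p := q.comap (algebraMap R P₀)
  let m := p.map (algebraMap R P)
  haveI : IsNoetherianRing (P ⧸ m) := KoszulLib.isNoetherianRing_fibre (S' := P) q p rfl
  haveI : Module.Flat P₀ P := IsLocalization.flat P q.primeCompl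
  haveI : Module.Flat R P := Module.Flat.trans R P₀ P
  let J := Ideal.span (Set.range f)
  obtain ⟨s, G, hG⟩ := Submodule.fg_iff_exists_fin_generating_family.mp hK
  let u : (Fin s → P) →ₗ[P] P := Fintype.linearCombination P G
  have hu : LinearMap.range u = K := by rw [Fintype.range_linearCombination, hG]
  have hmu : (m • ⊤ : Submodule P (Fin s → P)).map u = m * K := by
    rw [Submodule.map_smul'', Submodule.map_top, hu, smul_eq_mul]
  have hT : K ⊓ m ≤ m * K := by
    have h1 := inf_le K m f ((inf_comm _ _).le.trans (KoszulFib.inf_le_smul_of_flat (K ⊔ J) p)) hh hpre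
    obtain ⟨Z, hZ, hZW, hWZ⟩ := exists_fg_mod m (Submodule.comap u (K ⊓ m))
    let T' : Ideal P := Z.map u
    have hT' : T' ≤ K ⊓ m := Submodule.map_le_iff_le_comap.mpr hZW
    have h2 : K ⊓ m ≤ T' ⊔ m * K := by
      intro x hx
      obtain ⟨w, rfl⟩ : x ∈ LinearMap.range u := hu.symm ▸ hx.1
      have h3 := Submodule.mem_map_of_mem (f := u) (hWZ (show w ∈ Submodule.comap u (K ⊓ m) from hx))
      rw [Submodule.map_sup, hmu] at h3
      exact h3
    have h4 : T' ≤ m * K := by
      refine Submodule.le_of_le_smul_of_le_jacobson_bot (hZ.map u) hf ?_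
      refine hT'.trans (h1.trans ?_)
      rw [smul_eq_mul]
      refine sup_le le_sup_left ((Ideal.mul_mono le_rfl h2).trans ?_)
      rw [Ideal.mul_sup]
      exact sup_le le_sup_right (Ideal.mul_le_right.trans le_sup_left)
    exact h2.trans (sup_le h4 le_rfl)
  obtain ⟨W₀, hW₀, hW₀ker, hkerW₀⟩ := exists_fg_mod m (LinearMap.ker u)
  haveI : Module.FinitePresentation P ((Fin s → P) ⧸ W₀) :=
    Module.finitePresentation_of_surjective W₀.mkQ W₀.mkQ_surjective (by rw [Submodule.ker_mkQ]; exact hW₀)
  let u' : ((Fin s → P) ⧸ W₀) →ₗ[P] P := W₀.liftQ u hW₀ker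
  obtain ⟨-, hflat⟩ := InjFibre.atPrime (R := R) (S := P₀) (S' := P) q u' (fun x hx => by
    obtain ⟨a, rfl⟩ := W₀.mkQ_surjective x
    rw [smul_eq_mul, Ideal.mul_top] at hx
    have h1 : u a ∈ m * K := hT ⟨hu ▸ LinearMap.mem_range_self u a, hx⟩
    rw [← hmu] at h1
    obtain ⟨b, hb, hba⟩ := h1
    have h2 : a - b ∈ LinearMap.ker u := by rw [LinearMap.mem_ker, map_sub, hba, sub_self]
    obtain ⟨z, hz, w, hw, hzw⟩ := Submodule.mem_sup.mp (hkerW₀ h2)
    have h3 : W₀.mkQ a = W₀.mkQ (w + b) := by
      rw [show a = z + (w + b) by rw [← add_assoc, hzw, sub_add_cancel], map_add,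
        show W₀.mkQ z = 0 from (Submodule.Quotient.mk_eq_zero _).2 hz, zero_add]
    rw [h3]
    have h4 := Submodule.mem_map_of_mem (f := W₀.mkQ) (add_mem hw hb)
    rw [Submodule.map_smul''] at h4
    exact Submodule.smul_mono le_rfl le_top h4)
  have hr : LinearMap.range u' = K := by rw [Submodule.range_liftQ]; exact hu
  exact Module.Flat.of_linearEquiv ((Submodule.quotEquivOfEq _ _ hr).symm.restrictScalars R)

end Groth.Agent.RelH1
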