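import Groth.Agent.KoszulLib.H1
import Groth.Prelude.Def_CAlgX
import Mathlib

/-!
# Antisymmetric matrices killing a sequence
-/

set_option autoImplicit false
universe u

namespace Groth.Agent.RelH1

variable {P R : Type u} [CommRing P] [CommRing R]

/-- An alternating matrix. -/
def Anti {n : ℕ} (b : Fin n → Fin n → P) : Prop := (∀ i j, b i j = -b j i) ∧ ∀ i, b i i = 0

/-- The combination of trivial relations with coefficients `b`. -/
def mulv {n : ℕ} (b : Fin n → Fin n → P) (f : Fin n → P) : Fin n → P := fun i => ∑ j, b i j * f j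

theorem mulv_add {n : ℕ} (b c : Fin n → Fin n → P) (f : Fin n → P) (i : Fin n) :
    mulv (b + c) f i = mulv b f i + mulv c f i := by
  simp [mulv, add_mul, Finset.sum_add_distrib]

theorem mulv_sub {n : ℕ} (b c : Fin n → Fin n → P) (f : Fin n → P) (i : Fin n) :
    mulv (b - c) f i = mulv b f i - mulv c f i := by
  simp [mulv, sub_mul, Finset.sum_sub_distrib]

theorem mulv_smul {n : ℕ} (r : P) (b : Fin n → Fin n → P) (f : Fin n → P) (i : Fin n) :
    mulv (r • b) f i = r * mulv b f i := by
  simp [mulv, Finset.mul_sum, mul_assoc]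

theorem Anti.sum_mulv {n : ℕ} {b : Fin n → Fin n → P} (hb : Anti b) (f : Fin n → P) :
    ∑ i, mulv b f i * f i = 0 := by
  simp only [mulv, Finset.sum_mul]
  rw [← Finset.sum_product']
  refine Finset.sum_involution (fun p _ => (p.2, p.1)) (fun p _ => ?_) (fun p _ hp => ?_) (by simp) (by simp)
  · simp only
    rw [hb.1 p.2 p.1]
    ring
  · intro h
    obtain ⟨i, j⟩ := p
    simp only [Prod.mk.injEq] at h
    obtain ⟨rfl, -⟩ := h
    exact hp (by simp [hb.2])

theorem Anti.add {n : ℕ} {b c : Fin n → Fin n → P} (hb : Anti b) (hc : Anti c) : Anti (b + c) :=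
  ⟨fun i j => by simp only [Pi.add_apply]; rw [hb.1 i j, hc.1 i j]; ring,
    fun i => by simp only [Pi.add_apply]; rw [hb.2, hc.2, add_zero]⟩

theorem Anti.sub {n : ℕ} {b c : Fin n → Fin n → P} (hb : Anti b) (hc : Anti c) : Anti (b - c) :=
  ⟨fun i j => by simp only [Pi.sub_apply]; rw [hb.1 i j, hc.1 i j]; ring,
    fun i => by simp only [Pi.sub_apply]; rw [hb.2, hc.2, sub_zero]⟩

theorem anti_zero {n : ℕ} : Anti (0 : Fin n → Fin n → P) := ⟨fun _ _ => by simp, fun _ => rfl⟩

/-- Trivial relations come from alternating matrices, also along a surjection. -/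
theorem exists_anti_of_trivRel (φ : P →+* R) (hφ : Function.Surjective φ) {n : ℕ} (f : Fin n → P)
    {a : Fin n → R} (ha : a ∈ Submodule.span R {v : Fin n → R | ∃ i j : Fin n,
      v = Pi.single i (φ (f j)) - Pi.single j (φ (f i))}) :
    ∃ b, Anti b ∧ ∀ i, φ (mulv b f i) = a i := by
  classical
  induction ha using Submodule.span_induction with
  | mem v hv =>
    obtain ⟨p, q, rfl⟩ := hv
    refine ⟨fun i j => (if i = p ∧ j = q then 1 else 0) - (if i = q ∧ j = p then 1 else 0),
      ⟨fun i j => ?_, fun i => ?_⟩, fun i => ?_⟩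
    · simp only [neg_sub, and_comm]
    · simp [and_comm]
    · simp [mulv, sub_mul, Finset.sum_sub_distrib, ite_and, Pi.single_apply, apply_ite φ]
  | zero => exact ⟨0, anti_zero, fun i => by simp [mulv]⟩
  | add v w _ _ hv hw =>
    obtain ⟨b, hb, hbv⟩ := hv
    obtain ⟨c, hc, hcw⟩ := hw
    exact ⟨b + c, hb.add hc, fun i => by rw [mulv_add, map_add, hbv, hcw]; rfl⟩
  | smul r v _ hv =>
    obtain ⟨b, hb, hbv⟩ := hv
    obtain ⟨s, rfl⟩ := hφ r
    refine ⟨s • b, ⟨fun i j => ?_, fun i => ?_⟩, fun i => by rw [mulv_smul, map_mul, hbv]; rfl⟩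
    · simp only [Pi.smul_apply, smul_eq_mul]; rw [hb.1 i j]; ring
    · simp only [Pi.smul_apply, smul_eq_mul]; rw [hb.2, mul_zero]

/-- An alternating matrix killing a regular sequence modulo an ideal lifts to one killing the lift. -/
theorem exists_cycle (φ : P →+* R) (hφ : Function.Surjective φ) : ∀ {n : ℕ} (f : Fin n → P),
    (∀ (k : ℕ) (hk : k ≤ n), CAlgX.IsH1Regular (fun j => φ (f (Fin.castLE hk j)))) →
    ∀ b, Anti b → (∀ i, φ (mulv b f i) = 0) →
      ∃ d, Anti d ∧ (∀ i, mulv d f i = 0) ∧ ∀ i j, φ (d i j) = φ (b i j) := by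
  intro n
  induction n with
  | zero => intro f _ b hb _; exact ⟨0, anti_zero, fun i => i.elim0, fun i => i.elim0⟩
  | succ n ih =>
    intro f hpre b hb hbf
    let g := f ∘ Fin.castSucc
    have hh : CAlgX.IsH1Regular (fun j => φ (g j)) := hpre n (Nat.le_succ n)
    have hrow : ∑ j, φ (b (Fin.last n) j.castSucc) * φ (g j) = 0 := by
      have h := hbf (Fin.last n)
      rw [mulv, Fin.sum_univ_castSucc, hb.2, zero_mul, add_zero, map_sum] at h
      simpa [g] using h
    obtain ⟨e, he, hee⟩ := exists_anti_of_trivRel φ hφ g (hh _ hrow)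
    let d : Fin (n + 1) → Fin (n + 1) → P := fun i j =>
      Fin.lastCases (Fin.lastCases 0 (fun j => mulv e g j) j)
        (fun i => Fin.lastCases (-mulv e g i) (fun j => e i j * f (Fin.last n)) j) i
    have hd : Anti d := by
      refine ⟨fun i j => ?_, fun i => ?_⟩
      · induction i using Fin.lastCases with
        | last => induction j using Fin.lastCases <;> simp [d]
        | cast i =>
          induction j using Fin.lastCases with
          | last => simp [d]
          | cast j => simp [d]; rw [he.1 i j]; ring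
      · induction i using Fin.lastCases <;> simp [d, he.2]
    have hdf : ∀ i, mulv d f i = 0 := fun i => by
      induction i using Fin.lastCases with
      | last =>
        rw [mulv, Fin.sum_univ_castSucc]
        simp only [d, Fin.lastCases_last, Fin.lastCases_castSucc, zero_mul, add_zero]
        exact he.sum_mulv g
      | cast i =>
        rw [mulv, Fin.sum_univ_castSucc]
        simp only [d, Fin.lastCases_last, Fin.lastCases_castSucc, mulv, Finset.sum_mul, neg_mul, ← sub_eq_add_neg,
          g, Function.comp_apply]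
        rw [sub_eq_zero]
        exact Finset.sum_congr rfl fun j _ => by ring
    let c : Fin n → Fin n → P := fun i j => (b - d) i.castSucc j.castSucc
    have hz : ∀ i : Fin (n + 1), φ ((b - d) i (Fin.last n)) = 0 ∧ φ ((b - d) (Fin.last n) i) = 0 := fun i => by
      have h2 : φ ((b - d) (Fin.last n) i) = 0 := by
        induction i using Fin.lastCases with
        | last => simp [d, hb.2]
        | cast i => simp [d, hee]
      exact ⟨by rw [(hb.sub hd).1 i, map_neg, h2, neg_zero], h2⟩
    obtain ⟨d', hd', hdf', hdd'⟩ := ih g (fun k hk => hpre k (hk.trans n.le_succ)) c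
      ⟨fun i j => (hb.sub hd).1 _ _, fun i => (hb.sub hd).2 _⟩ (fun i => by
        have h := congrArg φ (mulv_sub b d f i.castSucc)
        rw [map_sub, hbf, hdf, map_zero, sub_zero, mulv, Fin.sum_univ_castSucc, map_add, map_mul,
          (hz _).1, zero_mul, add_zero] at h
        exact h)
    let D : Fin (n + 1) → Fin (n + 1) → P := fun i j =>
      Fin.lastCases 0 (fun i => Fin.lastCases 0 (fun j => d' i j) j) i
    have hD : Anti D := by
      refine ⟨fun i j => ?_, fun i => ?_⟩
      · induction i using Fin.lastCases <;> induction j using Fin.lastCases <;> simp [D]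
        exact hd'.1 _ _
      · induction i using Fin.lastCases <;> simp [D, hd'.2]
    refine ⟨d + D, hd.add hD, fun i => ?_, fun i j => ?_⟩
    · rw [mulv_add, hdf, zero_add]
      induction i using Fin.lastCases with
      | last => simp [mulv, D]
      | cast i =>
        rw [mulv, Fin.sum_univ_castSucc]
        simp only [D, Fin.lastCases_last, Fin.lastCases_castSucc, zero_mul, add_zero]
        exact hdf' i
    · rw [← sub_eq_zero, ← map_sub]
      simp only [Pi.add_apply]
      induction i using Fin.lastCases with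
      | last =>
        rw [show D (Fin.last n) j = 0 by simp [D], add_zero, ← neg_eq_zero, ← map_neg, neg_sub]
        exact (hz j).2
      | cast i =>
        induction j using Fin.lastCases with
        | last =>
          rw [show D i.castSucc (Fin.last n) = 0 by simp [D], add_zero, ← neg_eq_zero, ← map_neg, neg_sub]
          exact (hz i.castSucc).1
        | cast j =>
          rw [show D i.castSucc j.castSucc = d' i j by simp [D],
            show d i.castSucc j.castSucc + d' i j - b i.castSucc j.castSucc = d' i j - c i j by simp [c]; ring,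
            map_sub, hdd', sub_self]

variable (K m : Ideal P)

/-- Over a ring in which a sequence is regular modulo `K ⊔ m` and has only trivial relations modulo `K`, and with
`K ⊔ (f)` meeting `m` in the product, `K ⊓ m` is contained in `m K + (f) (K ⊓ m)`. -/
theorem inf_le {n : ℕ} (f : Fin n → P)
    (hflat : (K ⊔ Ideal.span (Set.range f)) ⊓ m ≤ m * (K ⊔ Ideal.span (Set.range f)))
    (hh : CAlgX.IsH1Regular (fun j => Ideal.Quotient.mk K (f j)))
    (hpre : ∀ (k : ℕ) (hk : k ≤ n), CAlgX.IsH1Regular (fun j => Ideal.Quotient.mk (K ⊔ m) (f (Fin.castLE hk j)))) :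
    K ⊓ m ≤ m * K ⊔ Ideal.span (Set.range f) * (K ⊓ m) := by
  classical
  intro x hx
  have hx' := hflat ⟨Ideal.mem_sup_left hx.1, hx.2⟩
  rw [Ideal.mul_sup] at hx'
  obtain ⟨y, hy, z, hz, rfl⟩ := Submodule.mem_sup.mp hx'
  obtain ⟨a, ha, rfl⟩ : ∃ a : Fin n → P, (∀ i, a i ∈ m) ∧ ∑ i, a i * f i = z := by
    clear hx hx'
    induction hz using Submodule.mul_induction_on' with
    | mem_mul_mem p hp q hq =>
      obtain ⟨c, rfl⟩ := Ideal.mem_span_range_iff_exists_fun.mp hq
      exact ⟨fun i => p * c i, fun i => m.mul_mem_right _ hp, by simp [Finset.mul_sum, mul_assoc]⟩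
    | add p _ q _ hp hq =>
      obtain ⟨a, ha, rfl⟩ := hp
      obtain ⟨b, hb, rfl⟩ := hq
      exact ⟨a + b, fun i => add_mem (ha i) (hb i), by simp [add_mul, Finset.sum_add_distrib]⟩
  have hyK : y ∈ K := (Ideal.mul_le_right : m * K ≤ K) hy
  have hzK : ∑ i, a i * f i ∈ K := by
    have h := K.sub_mem hx.1 hyK
    rwa [add_sub_cancel_left] at h
  obtain ⟨b, hb, hba⟩ := exists_anti_of_trivRel (Ideal.Quotient.mk K) Ideal.Quotient.mk_surjective f
    (hh (fun i => Ideal.Quotient.mk K (a i)) (by
      simp only [← map_mul, ← map_sum]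
      exact Ideal.Quotient.eq_zero_iff_mem.mpr hzK))
  have hbK : ∀ i, mulv b f i - a i ∈ K := fun i => Ideal.Quotient.eq.mp (hba i)
  obtain ⟨d, hd, hdf, hdb⟩ := exists_cycle (Ideal.Quotient.mk (K ⊔ m)) Ideal.Quotient.mk_surjective f hpre b hb
    (fun i => Ideal.Quotient.eq_zero_iff_mem.mpr (by
      simpa using add_mem (Ideal.mem_sup_left (T := m) (hbK i)) (Ideal.mem_sup_right (ha i))))
  choose k hk μ₀ hμ₀ hkμ using fun i j => Submodule.mem_sup.mp (Ideal.Quotient.eq.mp (hdb i j).symm)
  let μ : Fin n → Fin n → P := fun i j => if i < j then μ₀ i j else if j < i then -μ₀ j i else 0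
  have hμ : Anti μ := ⟨fun i j => by
    rcases lt_trichotomy i j with h | h | h
    · simp [μ, h, h.not_gt]
    · subst h; simp [μ]
    · simp [μ, h, h.not_gt], fun i => by simp [μ]⟩
  have hμK : ∀ i j, (b - d) i j - μ i j ∈ K := fun i j => by
    rcases lt_trichotomy i j with h | h | h
    · simp only [μ, if_pos h, Pi.sub_apply]
      rw [← hkμ i j]; simpa using hk i j
    · subst h; simp [μ, (hb.sub hd).2]
    · simp only [μ, if_neg h.not_gt, if_pos h]
      rw [(hb.sub hd).1 i j]
      simp only [Pi.sub_apply]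
      rw [← hkμ j i]
      simpa using neg_mem (hk j i)
  have hμm : ∀ i j, μ i j ∈ m := fun i j => by
    simp only [μ]
    split_ifs
    · exact hμ₀ i j
    · exact neg_mem (hμ₀ j i)
    · exact zero_mem _
  refine add_mem (Ideal.mem_sup_left hy) (Ideal.mem_sup_right ?_)
  have hs : ∑ i, a i * f i = ∑ i, (a i - mulv μ f i) * f i := by
    simp only [sub_mul, Finset.sum_sub_distrib, hμ.sum_mulv, sub_zero]
  rw [hs]
  refine Ideal.sum_mem _ fun i _ => ?_
  have hf : f i ∈ Ideal.span (Set.range f) := Ideal.subset_span ⟨i, rfl⟩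
  rw [mul_comm (a i - mulv μ f i)]
  refine Ideal.mul_mem_mul hf (⟨?_, ?_⟩ : a i - mulv μ f i ∈ K ⊓ m)
  · have h1 : a i - mulv μ f i = mulv (b - d) f i - mulv μ f i - (mulv b f i - a i) := by
      rw [mulv_sub, hdf]; ring
    rw [h1, ← mulv_sub]
    refine sub_mem (Ideal.sum_mem _ fun j _ => K.mul_mem_right _ (hμK i j)) (hbK i)
  · exact sub_mem (ha i) (Ideal.sum_mem _ fun j _ => m.mul_mem_right _ (hμm i j))

end Groth.Agent.RelH1
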