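import Groth.Agent.RelH1.Chart
import Groth.Agent.RelQuasi.Regular
import Groth.Agent.FibreFlat.PointCrit
import Groth.Agent.S0386

/-!
# Relatively H1-regular immersions: flatness near the subscheme, and regularity
-/

universe u

set_option autoImplicit false
set_option linter.style.haveILetI false
set_option backward.isDefEq.respectTransparency false

open CategoryTheory Limits AlgebraicGeometry RingTheory.Sequence TensorProduct

namespace Groth.Agent.RelH1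

variable {Z X S : Scheme.{u}}

theorem flat_sections (f : X ⟶ S) {V : S.Opens} (hV : IsAffineOpen V) {U : X.Opens} (hU : IsAffineOpen U)
    (e : U ≤ f ⁻¹ᵁ V) (h : ∀ x ∈ U, (f.stalkMap x).hom.Flat) :
    letI := (f.appLE V U e).hom.toAlgebra
    Module.Flat Γ(S, V) Γ(X, U) := by
  letI := (f.appLE V U e).hom.toAlgebra
  refine Module.flat_of_isLocalized_maximal Γ(X, U) Γ(X, U) (fun P _ => Localization.AtPrime P)
    (fun P _ => Algebra.linearMap Γ(X, U) _) fun P hP => ?_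
  obtain ⟨hy, hyp⟩ := InjFibre.primeIdealOf_fromSpec hU ⟨P, hP.isPrime⟩
  have h1 := (FibreFlat.flatAt_iff_appLE f hV hU e ⟨_, hy⟩).1 (h _ hy)
  rw [hyp] at h1
  exact h1

/-- A relatively H1-regular immersion has its ambient scheme flat along it. -/
theorem flat_stalkMap (f : X ⟶ S) [LocallyOfFinitePresentation f] (i : Z ⟶ X)
    (hi : RegImm.IsRelRegularImmersion RegImm.Kind.h1 f i) (z : Z) : (f.stalkMap (i z)).hom.Flat := by
  obtain ⟨⟨himm, hreg⟩, hflat⟩ := hi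
  obtain ⟨U, hz, hc, rs, hrs, hker⟩ := hreg z
  obtain ⟨_, ⟨V, hV, rfl⟩, hzV, -⟩ :=
    S.isBasis_affineOpens.exists_subset_of_mem_open (Set.mem_univ (f (i z))) isOpen_univ
  obtain ⟨a, ha, hza⟩ := U.2.exists_basicOpen_le (V := f ⁻¹ᵁ V) ⟨i z, hzV⟩ hz
  obtain ⟨U₁, hU₁⟩ : ∃ U₁ : X.affineOpens, U₁.1 = X.basicOpen a := ⟨X.affineBasicOpen a, rfl⟩
  have hle : U₁.1 ≤ U.1 := hU₁.le.trans (X.basicOpen_le a)
  have hUV : U₁.1 ≤ f ⁻¹ᵁ V := hU₁.le.trans ha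
  have hzU₁ : i z ∈ U₁.1 := hU₁ ▸ hza
  obtain ⟨hc₁, hker₁⟩ := KoszulLib.ker_app_of_le i U hc U₁ hle
  letI : Algebra Γ(X, U.1) Γ(X, U₁.1) := (X.presheaf.map (homOfLE hle).op).hom.toAlgebra
  haveI : IsLocalization.Away a Γ(X, U₁.1) := U.2.isLocalization_of_eq_basicOpen a (homOfLE hle) hU₁
  haveI : Module.Flat Γ(X, U.1) Γ(X, U₁.1) := IsLocalization.flat _ (Submonoid.powers a)
  let rs₁ := rs.map (algebraMap Γ(X, U.1) Γ(X, U₁.1))
  have hrs₁ : RegImm.Kind.h1.Seq Γ(X, U₁.1) rs₁ := KoszulLib.seq_flat .h1 (fun h => by simp at h) hrs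
  have hk₁ : RingHom.ker (i.app U₁.1).hom = Ideal.ofList rs₁ := by
    rw [hker₁, hker]; exact Ideal.map_ofList _ _
  letI : Algebra Γ(S, V) Γ(X, U₁.1) := (f.appLE V U₁.1 hUV).hom.toAlgebra
  haveI : Algebra.FinitePresentation Γ(S, V) Γ(X, U₁.1) := f.finitePresentation_appLE hV U₁.2 hUV
  have hspan : Ideal.span (Set.range rs₁.get) = Ideal.ofList rs₁ := by
    rw [Ideal.ofList]; congr 1; ext x; simp [List.mem_iff_get]
  haveI : Module.Flat Γ(S, V) (Γ(X, U₁.1) ⧸ Ideal.span (Set.range rs₁.get)) := by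
    have e : i ⁻¹ᵁ U₁.1 ≤ (i ≫ f) ⁻¹ᵁ V := fun z hz => hUV hz
    letI := ((i ≫ f).appLE V (i ⁻¹ᵁ U₁.1) e).hom.toAlgebra
    haveI : Module.Flat Γ(S, V) Γ(Z, i ⁻¹ᵁ U₁.1) :=
      HasRingHomProperty.appLE @Flat (i ≫ f) hflat ⟨V, hV⟩ ⟨_, KoszulLib.isAffineOpen_preimage i hc₁⟩ e
    let φ : Γ(X, U₁.1) →ₐ[Γ(S, V)] Γ(Z, i ⁻¹ᵁ U₁.1) :=
      { (i.app U₁.1).hom with
        commutes' := fun r => by
          show (i.app U₁.1).hom ((f.appLE V U₁.1 hUV).hom r) = ((i ≫ f).appLE V (i ⁻¹ᵁ U₁.1) e).hom r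
          rw [Scheme.Hom.app_eq_appLE, ← CommRingCat.comp_apply, Scheme.Hom.appLE_comp_appLE] }
    rw [hspan, ← hk₁]
    exact Module.Flat.of_linearEquiv
      (Ideal.quotientKerAlgEquivOfSurjective (f := φ) (KoszulLib.app_surjective i hc₁)).toLinearEquiv
  let q := U₁.2.primeIdealOf ⟨i z, hzU₁⟩
  have hmem : ∀ r ∈ rs₁, r ∈ q.asIdeal := fun r hr => by
    by_contra hn
    have hb : i z ∈ X.basicOpen r := (WeakAssLib.mem_primeIdealOf U₁.2 hzU₁ r).2 hn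
    have h0 : (i.app U₁.1).hom r = 0 := RingHom.mem_ker.1 (hk₁ ▸ Ideal.subset_span hr)
    have hb' : z ∈ i ⁻¹ᵁ X.basicOpen r := hb
    rw [Scheme.preimage_basicOpen, show (i.app U₁.1) r = 0 from h0, Scheme.basicOpen_zero] at hb'
    exact hb'
  exact (FibreFlat.flatAt_iff_appLE f hV U₁.2 hUV ⟨i z, hzU₁⟩).2
    (flat_of_h1 rs₁.get hrs₁ q.asIdeal fun j => hmem _ (List.get_mem rs₁ j))

/-- A relatively quasi-regular immersion, flat near the subscheme, is regular. -/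
theorem isRegularImmersion_regular (f : X ⟶ S) [LocallyOfFinitePresentation f] (i : Z ⟶ X) (U₀ : X.Opens)
    (hU₀ : ∀ z, i z ∈ U₀) (hfl : ∀ x ∈ U₀, (f.stalkMap x).hom.Flat)
    (hi : RegImm.IsRelRegularImmersion RegImm.Kind.quasi f i) : RegImm.IsRegularImmersion RegImm.Kind.regular i := by
  obtain ⟨⟨himm, hreg⟩, hflat⟩ := hi
  refine ⟨himm, fun z => ?_⟩
  obtain ⟨U, hz, hc, rs, hrs, hker⟩ := hreg z
  obtain ⟨_, ⟨V, hV, rfl⟩, hzV, -⟩ :=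
    S.isBasis_affineOpens.exists_subset_of_mem_open (Set.mem_univ (f (i z))) isOpen_univ
  obtain ⟨a, ha, hza⟩ := U.2.exists_basicOpen_le (V := f ⁻¹ᵁ V ⊓ U₀) ⟨i z, hzV, hU₀ z⟩ hz
  obtain ⟨U₁, hU₁⟩ : ∃ U₁ : X.affineOpens, U₁.1 = X.basicOpen a := ⟨X.affineBasicOpen a, rfl⟩
  have hle : U₁.1 ≤ U.1 := hU₁.le.trans (X.basicOpen_le a)
  have hUV : U₁.1 ≤ f ⁻¹ᵁ V := (hU₁.le.trans ha).trans inf_le_left
  have hzU₁ : i z ∈ U₁.1 := hU₁ ▸ hza
  obtain ⟨hc₁, hker₁⟩ := KoszulLib.ker_app_of_le i U hc U₁ hle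
  letI : Algebra Γ(X, U.1) Γ(X, U₁.1) := (X.presheaf.map (homOfLE hle).op).hom.toAlgebra
  haveI : IsLocalization.Away a Γ(X, U₁.1) := U.2.isLocalization_of_eq_basicOpen a (homOfLE hle) hU₁
  haveI : Module.Flat Γ(X, U.1) Γ(X, U₁.1) := IsLocalization.flat _ (Submonoid.powers a)
  let rs₁ := rs.map (algebraMap Γ(X, U.1) Γ(X, U₁.1))
  have hrs₁ : RegImm.Kind.quasi.Seq Γ(X, U₁.1) rs₁ := KoszulLib.seq_flat .quasi (fun h => by simp at h) hrs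
  have hk₁ : RingHom.ker (i.app U₁.1).hom = Ideal.ofList rs₁ := by
    rw [hker₁, hker]; exact Ideal.map_ofList _ _
  letI : Algebra Γ(S, V) Γ(X, U₁.1) := (f.appLE V U₁.1 hUV).hom.toAlgebra
  haveI : Algebra.FinitePresentation Γ(S, V) Γ(X, U₁.1) := f.finitePresentation_appLE hV U₁.2 hUV
  haveI : Module.Flat Γ(S, V) Γ(X, U₁.1) :=
    flat_sections f hV U₁.2 hUV fun x hx => hfl x ((hU₁.le.trans ha) hx).2
  have hspan : Ideal.span (Set.range rs₁.get) = Ideal.ofList rs₁ := by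
    rw [Ideal.ofList]; congr 1; ext x; simp [List.mem_iff_get]
  haveI : Module.Flat Γ(S, V) (Γ(X, U₁.1) ⧸ Ideal.span (Set.range rs₁.get)) := by
    have e : i ⁻¹ᵁ U₁.1 ≤ (i ≫ f) ⁻¹ᵁ V := fun z hz => hUV hz
    letI := ((i ≫ f).appLE V (i ⁻¹ᵁ U₁.1) e).hom.toAlgebra
    haveI : Module.Flat Γ(S, V) Γ(Z, i ⁻¹ᵁ U₁.1) :=
      HasRingHomProperty.appLE @Flat (i ≫ f) hflat ⟨V, hV⟩ ⟨_, KoszulLib.isAffineOpen_preimage i hc₁⟩ e
    let φ : Γ(X, U₁.1) →ₐ[Γ(S, V)] Γ(Z, i ⁻¹ᵁ U₁.1) :=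
      { (i.app U₁.1).hom with
        commutes' := fun r => by
          show (i.app U₁.1).hom ((f.appLE V U₁.1 hUV).hom r) = ((i ≫ f).appLE V (i ⁻¹ᵁ U₁.1) e).hom r
          rw [Scheme.Hom.app_eq_appLE, ← CommRingCat.comp_apply, Scheme.Hom.appLE_comp_appLE] }
    rw [hspan, ← hk₁]
    exact Module.Flat.of_linearEquiv
      (Ideal.quotientKerAlgEquivOfSurjective (f := φ) (KoszulLib.app_surjective i hc₁)).toLinearEquiv
  let q := U₁.2.primeIdealOf ⟨i z, hzU₁⟩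
  have hmem : ∀ r ∈ rs₁, r ∈ q.asIdeal := fun r hr => by
    by_contra hn
    have hb : i z ∈ X.basicOpen r := (WeakAssLib.mem_primeIdealOf U₁.2 hzU₁ r).2 hn
    have h0 : (i.app U₁.1).hom r = 0 := RingHom.mem_ker.1 (hk₁ ▸ Ideal.subset_span hr)
    have hb' : z ∈ i ⁻¹ᵁ X.basicOpen r := hb
    rw [Scheme.preimage_basicOpen, show (i.app U₁.1) r = 0 from h0, Scheme.basicOpen_zero] at hb'
    exact hb'
  have hseq := RelQuasi.seqAt_of_quasi (R := Γ(S, V)) rs₁.get hrs₁ q (fun j => hmem _ (List.get_mem rs₁ j))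
  rw [List.ofFn_get] at hseq
  obtain ⟨t, htq, ht⟩ := KoszulLib.exists_away_of_seqAt rs₁ q hseq
  let U₂ : X.affineOpens := ⟨X.basicOpen t, U₁.2.basicOpen t⟩
  have hle₂ : U₂.1 ≤ U₁.1 := X.basicOpen_le t
  have hzU₂ : i z ∈ U₂.1 := (WeakAssLib.mem_primeIdealOf U₁.2 hzU₁ t).2 htq
  obtain ⟨hc₂, hker₂⟩ := KoszulLib.ker_app_of_le i U₁ hc₁ U₂ hle₂
  let rs₂ := rs₁.map (X.presheaf.map (homOfLE hle₂).op).hom
  have hk₂ : RingHom.ker (i.app U₂.1).hom = Ideal.ofList rs₂ := by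
    rw [hker₂, hk₁]; exact Ideal.map_ofList _ _
  refine ⟨U₂, hzU₂, hc₂, rs₂, ⟨?_, ?_⟩, hk₂⟩
  · let e₂ : U₂.1 ≤ f ⁻¹ᵁ V := hle₂.trans hUV
    letI : Algebra Γ(S, V) Γ(X, U₂.1) := (f.appLE V U₂.1 e₂).hom.toAlgebra
    refine (InjFibre.isWeaklyRegular_of_seqAt (R := Γ(S, V)) rs₂ fun p => ?_).1
    obtain ⟨hy, hyp⟩ := InjFibre.primeIdealOf_fromSpec U₂.2 p
    have h2 := (InjFibre.seqAt_chart f hV U₁.2 hUV (U₂.2.fromSpec p) (hle₂ hy) rs₁).1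
      (ht _ ((WeakAssLib.mem_primeIdealOf U₁.2 (hle₂ hy) t).1 hy))
    rw [← hyp, InjFibre.seqAt_chart f hV U₂.2 e₂ (U₂.2.fromSpec p) hy rs₂]
    have hl : rs₂.map (X.presheaf.germ U₂.1 _ hy).hom = rs₁.map (X.presheaf.germ U₁.1 _ (hle₂ hy)).hom := by
      rw [List.map_map]
      exact List.map_congr_left fun a _ => TopCat.Presheaf.germ_res_apply _ _ _ _ _
    rw [hl, show rs₂.length = rs₁.length from List.length_map _]
    exact h2
  · intro htop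
    have h1 : RingHom.ker (i.app U₂.1).hom = ⊤ := by
      rw [hk₂]; simpa [smul_eq_mul, Ideal.mul_top] using htop.symm
    haveI : Nonempty ↥(i ⁻¹ᵁ U₂.1) := ⟨⟨z, hzU₂⟩⟩
    exact RingHom.ker_ne_top _ h1

end Groth.Agent.RelH1
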